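import Groth.Agent.H1NIT.Kunz
import Groth.Agent.S2082
import Groth.Agent.LC.GorHull
import Groth.Agent.LC.CanonComplete
import Mathlib

/-! Kunz's theorem. -/

universe u

open IsLocalRing

namespace Groth.Agent.H1NIT

set_option backward.isDefEq.respectTransparency false
set_option backward.isDefEq.respectTransparency.types false

theorem flat_of_primary {R S : Type u} [CommRing R] [CommRing S] [IsRegularLocalRing R]
    [LocCoh.IsCohenMacaulayLocalRing S] (f : R →+* S) [IsLocalHom f] (hdim : ringKrullDim S = ringKrullDim R)
    (hfib : maximalIdeal S ≤ ((maximalIdeal R).map f).radical) : f.Flat := by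
  letI : Algebra R S := f.toAlgebra
  haveI : IsLocalHom (algebraMap R S) := ‹_›
  let I := (maximalIdeal R).map (algebraMap R S)
  have hI : I ≤ maximalIdeal S := ((IsLocalRing.local_hom_TFAE (algebraMap R S)).out 0 2).1 ‹_›
  haveI : Nontrivial (S ⧸ I) := Ideal.Quotient.nontrivial_iff.2 fun h =>
    (maximalIdeal.isMaximal S).ne_top (top_unique (h ▸ hI))
  have h0 : ringKrullDim (S ⧸ I) = 0 := by
    refine le_antisymm ?_ ringKrullDim_nonneg_of_nontrivial
    have : Ring.KrullDimLE 0 (S ⧸ I) := Ring.KrullDimLE.mk₀ fun P hP => by
      have hc : (P.comap (Ideal.Quotient.mk I)).IsPrime := inferInstance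
      have hle : maximalIdeal S ≤ P.comap (Ideal.Quotient.mk I) :=
        hfib.trans (hc.radical_le_iff.2 fun a ha => by
          rw [Ideal.mem_comap, (Ideal.Quotient.eq_zero_iff_mem (I := I)).2 ha]; exact zero_mem _)
      have hmax : (P.comap (Ideal.Quotient.mk I)).IsMaximal :=
        le_antisymm hle (le_maximalIdeal hc.ne_top) ▸ maximalIdeal.isMaximal S
      exact ⟨⟨hP.ne_top, fun J hJ => by
        have hlt : P.comap (Ideal.Quotient.mk I) < J.comap (Ideal.Quotient.mk I) :=
          lt_of_le_of_ne (Ideal.comap_mono hJ.le) fun e => hJ.ne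
            (Ideal.comap_injective_of_surjective _ Ideal.Quotient.mk_surjective e)
        exact Ideal.comap_eq_top_iff.1 (hmax.out.2 _ hlt)⟩⟩
    exact Ring.krullDimLE_iff.1 this
  exact Groth.Agent.S2082.result (R := R) (S := S) (by rw [h0, add_zero, hdim])

theorem frobenius_flat_of_regularLocal (p : ℕ) [hp : Fact p.Prime] (R : Type u) [CommRing R] [IsRegularLocalRing R]
    [CharP R p] : (frobenius R p).Flat := by
  haveI : ExpChar R p := ExpChar.prime hp.out
  haveI : LocCoh.IsGorensteinLocalRing R := LC.gorenstein_of_isRegularLocalRing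
  haveI : LocCoh.IsCohenMacaulayLocalRing R := LC.isCohenMacaulayLocalRing_of_gorenstein
  haveI : IsLocalHom (frobenius R p) :=
    ⟨fun a ha => by rw [frobenius_def] at ha; exact (isUnit_pow_iff hp.out.ne_zero).1 ha⟩
  exact flat_of_primary (frobenius R p) rfl fun a ha => ⟨p, by
    rw [← frobenius_def]; exact Ideal.mem_map_of_mem _ ha⟩

variable (p : ℕ) [hp : Fact p.Prime] (R : Type u) [CommRing R] [CharP R p]

include hp in
theorem comap_frobenius [ExpChar R p] (P : Ideal R) [P.IsPrime] : P = P.comap (frobenius R p) := by
  ext x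
  rw [Ideal.mem_comap, frobenius_def]
  exact (Ideal.IsPrime.pow_mem_iff_mem ‹P.IsPrime› p hp.out.pos).symm

theorem charP_atPrime (P : Ideal R) [P.IsPrime] : CharP (Localization.AtPrime P) p :=
  (CharP.charP_iff_prime_eq_zero hp.out).2 (by
    rw [← map_natCast (algebraMap R (Localization.AtPrime P)), CharP.cast_eq_zero, map_zero])

theorem localRingHom_frobenius [ExpChar R p] (P : Ideal R) [P.IsPrime] [ExpChar (Localization.AtPrime P) p] :
    Localization.localRingHom P P (frobenius R p) (comap_frobenius p R P) = frobenius (Localization.AtPrime P) p :=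
  IsLocalization.ringHom_ext P.primeCompl (RingHom.ext fun x => by
    rw [RingHom.comp_apply, Localization.localRingHom_to_map, RingHom.comp_apply, RingHom.map_frobenius])

omit hp [CharP R p] in
theorem flat_localRingHom_of_eq (f : R →+* R) (P Q : Ideal R) [P.IsPrime] [Q.IsPrime] (h : P = Q.comap f)
    (e : P = Q) (hf : (Localization.localRingHom P Q f h).Flat) :
    (Localization.localRingHom (Q.comap f) Q f rfl).Flat := by
  subst h
  exact hf

theorem regular_iff_frobenius_flat [IsNoetherianRing R] : IsRegularRing R ↔ (frobenius R p).Flat := by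
  haveI : ExpChar R p := ExpChar.prime hp.out
  constructor
  · intro hR
    refine RingHom.Flat.ofLocalizationPrime _ fun P hP => ?_
    haveI := charP_atPrime p R P
    haveI : ExpChar (Localization.AtPrime P) p := ExpChar.prime hp.out
    haveI := IsRegularRing.isRegularLocalRing_localization (R := R) P
    refine flat_localRingHom_of_eq R _ P P (comap_frobenius p R P) rfl ?_
    rw [localRingHom_frobenius]
    exact frobenius_flat_of_regularLocal p _
  · intro h
    refine { isRegularLocalRing_localization := fun P _ => ?_ }
    haveI := charP_atPrime p R P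
    haveI : ExpChar (Localization.AtPrime P) p := ExpChar.prime hp.out
    haveI : IsNoetherianRing (Localization.AtPrime P) := IsLocalization.isNoetherianRing P.primeCompl _ inferInstance
    refine isRegularLocalRing_of_frobenius_flat p ?_
    rw [← localRingHom_frobenius]
    exact h.localRingHom P P _

end Groth.Agent.H1NIT
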