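import Groth.Agent.H1NIT.Kill
import Mathlib

/-! Killing homology of bounded free complexes is preserved by base change (null homotopies). -/

universe u v

namespace Groth.Agent.H1NIT

variable {R : Type u} [CommRing R] {A : Type v} [CommRing A]

/-- Base change of a map of standard free modules. -/
noncomputable def bmap (ψ : R →+* A) {p q : ℕ} (f : (Fin p → R) →ₗ[R] (Fin q → R)) :
    (Fin p → A) →ₗ[A] (Fin q → A) :=
  Matrix.mulVecLin ((LinearMap.toMatrix' f).map ψ)

theorem bmap_comp (ψ : R →+* A) {p q r : ℕ} (f : (Fin q → R) →ₗ[R] (Fin r → R))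
    (g : (Fin p → R) →ₗ[R] (Fin q → R)) : bmap ψ (f ∘ₗ g) = bmap ψ f ∘ₗ bmap ψ g := by
  rw [bmap, bmap, bmap, LinearMap.toMatrix'_comp, Matrix.map_mul, Matrix.mulVecLin_mul]

theorem bmap_zero (ψ : R →+* A) {p q : ℕ} : bmap ψ (0 : (Fin p → R) →ₗ[R] (Fin q → R)) = 0 := by
  rw [bmap, map_zero, Matrix.map_zero _ (map_zero ψ), Matrix.mulVecLin_zero]

theorem bmap_add (ψ : R →+* A) {p q : ℕ} (f g : (Fin p → R) →ₗ[R] (Fin q → R)) :
    bmap ψ (f + g) = bmap ψ f + bmap ψ g := by
  rw [bmap, bmap, bmap, map_add, Matrix.map_add _ (map_add ψ), Matrix.mulVecLin_add]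

theorem bmap_smul_id (ψ : R →+* A) {p : ℕ} (a : R) :
    bmap ψ (a • (LinearMap.id : (Fin p → R) →ₗ[R] (Fin p → R))) = ψ a • LinearMap.id := by
  rw [bmap, map_smul, LinearMap.toMatrix'_id]
  refine LinearMap.ext fun v => funext fun i => ?_
  simp [Matrix.mulVec, dotProduct, Matrix.map_apply, Matrix.one_apply, apply_ite ψ, ite_mul, Finset.sum_ite_eq]

/-- Base change of a free complex. -/
@[reducible] noncomputable def FreeCx.map (F : FreeCx R) (ψ : R →+* A) : FreeCx A where
  n := F.n
  D j := bmap ψ (F.D j)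
  comp j := by rw [← bmap_comp, F.comp, bmap_zero]

/-- The `h D` part of a homotopy. -/
def prevMap (F : FreeCx R) (h : ∀ j, (Fin (F.n j) → R) →ₗ[R] (Fin (F.n (j + 1)) → R)) :
    ∀ j, (Fin (F.n j) → R) →ₗ[R] (Fin (F.n j) → R)
  | 0 => 0
  | j + 1 => h j ∘ₗ F.D j

theorem exists_homotopy (F : FreeCx R) (a : R)
    (ha : ∀ j, ∃ N : ℕ, ∀ z ∈ F.Z j, a ^ N • z ∈ LinearMap.range (F.D j)) (r : ℕ) :
    ∃ (M : ℕ) (h : ∀ j, (Fin (F.n j) → R) →ₗ[R] (Fin (F.n (j + 1)) → R)),
      ∀ j < r, a ^ M • LinearMap.id = F.D j ∘ₗ h j + prevMap F h j := by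
  induction r with
  | zero => exact ⟨0, fun j => 0, fun j hj => absurd hj (Nat.not_lt_zero j)⟩
  | succ r ih =>
    obtain ⟨M, h, hh⟩ := ih
    obtain ⟨N, hN⟩ := ha r
    have hg : ∀ x, a ^ M • x - prevMap F h r x ∈ F.Z r := by
      intro x
      cases r with
      | zero => trivial
      | succ s =>
        show F.D s (a ^ M • x - h s (F.D s x)) = 0
        have h1 := LinearMap.congr_fun (hh s (Nat.lt_succ_self s)) (F.D s x)
        have h2 : prevMap F h s (F.D s x) = 0 := by
          cases s with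
          | zero => rfl
          | succ t =>
            show h t (F.D t (F.D (t + 1) x)) = 0
            rw [show F.D t (F.D (t + 1) x) = 0 from LinearMap.congr_fun (F.comp t) x, map_zero]
        simp only [LinearMap.smul_apply, LinearMap.id_apply, LinearMap.add_apply, LinearMap.comp_apply, h2,
          add_zero] at h1
        rw [map_sub, map_smul, h1, sub_self]
    choose w hw using fun i => LinearMap.mem_range.1 (hN _ (hg (Pi.single i (1 : R))))
    let hr : (Fin (F.n r) → R) →ₗ[R] (Fin (F.n (r + 1)) → R) := (Pi.basisFun R _).constr R w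
    let h' := Function.update (fun j => a ^ N • h j) r hr
    refine ⟨N + M, h', fun j hj => ?_⟩
    have hlt : ∀ i < r, h' i = a ^ N • h i := fun i hi => Function.update_of_ne (Nat.ne_of_lt hi) _ _
    have hprev : ∀ i ≤ r, prevMap F h' i = a ^ N • prevMap F h i := by
      intro i hi
      cases i with
      | zero => exact (smul_zero (a ^ N)).symm
      | succ s =>
        show h' s ∘ₗ F.D s = _
        rw [hlt s hi, LinearMap.smul_comp]; rfl
    rcases Nat.lt_succ_iff_lt_or_eq.1 hj with hj | rfl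
    · rw [hlt j hj, hprev j hj.le, pow_add, mul_smul, hh j hj, smul_add, LinearMap.comp_smul]
    · refine (Pi.basisFun R _).ext fun i => ?_
      rw [hprev j le_rfl]
      have e : h' j = hr := Function.update_self _ _ _
      simp only [LinearMap.smul_apply, LinearMap.id_apply, LinearMap.add_apply, LinearMap.comp_apply, e, hr,
        Module.Basis.constr_basis]
      rw [hw, Pi.basisFun_apply, smul_sub, pow_add, mul_smul, sub_add_cancel]

/-- Powers of the image of an element killing the homology kill the homology of the base change. -/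
theorem exists_kill_map (F : FreeCx R) (k : ℕ) (hk : ∀ j, k < j → F.n j = 0) (a : R)
    (ha : ∀ j, ∃ N : ℕ, ∀ z ∈ F.Z j, a ^ N • z ∈ LinearMap.range (F.D j)) (ψ : R →+* A) :
    ∃ M : ℕ, ∀ j, ∀ z ∈ (F.map ψ).Z j, ψ a ^ M • z ∈ LinearMap.range ((F.map ψ).D j) := by
  obtain ⟨M, h, hh⟩ := exists_homotopy F a ha (k + 1)
  refine ⟨M, fun j (z : Fin (F.n j) → A) hz => ?_⟩
  rcases lt_or_ge k j with hj | hj
  · have : IsEmpty (Fin (F.n j)) := by rw [hk j hj]; infer_instance
    exact ⟨0, funext fun i => (show False from isEmptyElim (show Fin (F.n j) from i)).elim⟩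
  refine ⟨bmap ψ (h j) z, ?_⟩
  have h1 := congrArg (bmap ψ) (hh j (Nat.lt_succ_of_le hj))
  rw [bmap_smul_id, bmap_add, bmap_comp, map_pow] at h1
  have h2 := LinearMap.congr_fun h1 z
  have h3 : bmap ψ (prevMap F h j) z = 0 := by
    cases j with
    | zero => show bmap ψ 0 z = 0; rw [bmap_zero]; rfl
    | succ s =>
      show bmap ψ (h s ∘ₗ F.D s) z = 0
      rw [bmap_comp, LinearMap.comp_apply, show bmap ψ (F.D s) z = 0 from hz, map_zero]
  rw [LinearMap.add_apply, h3, add_zero] at h2
  exact h2.symm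

end Groth.Agent.H1NIT
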