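import Groth.Agent.H1NIT.Main
import Groth.Agent.LC.LocalDualityCM
import Mathlib

/-! Finite length cohomology of free cochain complexes over a Cohen–Macaulay ring vanishes in low degrees. -/

universe u

open CategoryTheory CategoryTheory.Limits IsLocalRing

namespace Groth.Agent.H1NIT

set_option backward.isDefEq.respectTransparency false
set_option backward.isDefEq.respectTransparency.types false

variable {R : Type u} [CommRing R] [IsLocalRing R] [IsNoetherianRing R]

theorem isZero_homology_low (g : ℕ) (hdepth : (g : ℕ∞) ≤ LocCoh.depth R R) (K : CochainComplex (ModuleCat.{u} R) ℕ)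
    (N : ℕ) (hbd : ∀ i, N < i → IsZero (K.X i)) (hfree : ∀ i, Module.Free R (K.X i) ∧ Module.Finite R (K.X i))
    (hfl : ∀ i, IsFiniteLength R (K.homology i)) (i : ℕ) (hi : i < g) : IsZero (K.homology i) := by
  haveI := fun i => (hfree i).1
  haveI := fun i => (hfree i).2
  rcases lt_or_ge N i with hiN | hiN
  · exact ShortComplex.isZero_homology_of_isZero_X₂ _ (hbd i hiN)
  let idx : ℕ → ℕ := fun j => if j ≤ N then N - j else N + 1 + j
  let n : ℕ → ℕ := fun j => Module.finrank R (K.X (idx j))
  let e : ∀ j, K.X (idx j) ≃ₗ[R] (Fin (n j) → R) := fun j => (Module.finBasis R (K.X (idx j))).equivFun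
  let G : FreeCx R :=
    { n := n
      D := fun j => (e j).toLinearMap ∘ₗ (K.d (idx (j + 1)) (idx j)).hom ∘ₗ (e (j + 1)).symm.toLinearMap
      comp := fun j => by
        refine LinearMap.ext fun x => ?_
        simp only [LinearMap.comp_apply, LinearEquiv.coe_coe, LinearEquiv.symm_apply_apply, LinearMap.zero_apply]
        have h := congrArg (fun f => f.hom ((e (j + 1 + 1)).symm x))
          (K.d_comp_d (idx (j + 1 + 1)) (idx (j + 1)) (idx j))
        simp only [ModuleCat.hom_comp, LinearMap.comp_apply, ModuleCat.hom_zero, LinearMap.zero_apply] at h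
        rw [h, map_zero] }
  have hk : ∀ j, N < j → G.n j = 0 := fun j hj => by
    haveI : Subsingleton (K.X (idx j)) := ModuleCat.subsingleton_of_isZero (hbd _ (by simp only [idx]; rw [if_neg (by omega)]; omega))
    exact Module.finrank_zero_of_subsingleton
  have hrange : ∀ j, j ≤ N → ∀ l (w : K.X l), e j ((K.d l (idx j)).hom w) ∈ LinearMap.range (G.D j) := by
    intro j hj l w
    by_cases hl : (ComplexShape.up ℕ).Rel l (idx j)
    · obtain rfl : l = idx (j + 1) := by
        change l + 1 = idx j at hl
        simp only [idx, if_pos hj] at hl ⊢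
        rw [if_pos (by omega)]; omega
      exact ⟨e (j + 1) w, by
        show e j ((K.d _ _).hom ((e (j + 1)).symm (e (j + 1) w))) = _
        rw [LinearEquiv.symm_apply_apply]⟩
    · rw [K.shape _ _ hl]
      exact ⟨0, by rw [map_zero]; exact (map_zero _).symm⟩
  have hcyc : ∀ j, j ≤ N → ∀ z ∈ G.Z j,
      (K.d (idx j) ((ComplexShape.up ℕ).next (idx j))).hom ((e j).symm z) = 0 := by
    intro j hj z hz
    rw [CochainComplex.next]
    cases j with
    | zero =>
      haveI : Subsingleton (K.X (idx 0 + 1)) := ModuleCat.subsingleton_of_isZero (hbd _ (by simp [idx]))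
      exact Subsingleton.elim _ _
    | succ m =>
      have : idx (m + 1) + 1 = idx m := by
        simp only [idx]; rw [if_pos hj, if_pos (by omega)]; omega
      rw [this]
      exact (e m).injective (hz.trans (map_zero _).symm)
  have hex : ∀ j, j ≤ N → ∀ b : R, (∀ x : K.homology (idx j), b • x = 0) → ∀ z ∈ G.Z j,
      b • z ∈ LinearMap.range (G.D j) := by
    intro j hj b hb z hz
    let t := ShortComplex.homologyMapIso (K.isoSc' ((ComplexShape.up ℕ).prev (idx j)) (idx j)
      ((ComplexShape.up ℕ).next (idx j)) rfl rfl)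
    obtain ⟨w, hw⟩ := shortComplex_kill
      (K.sc' ((ComplexShape.up ℕ).prev (idx j)) (idx j) ((ComplexShape.up ℕ).next (idx j))) (b := b)
      (fun x => by
        obtain ⟨y, rfl⟩ := t.toLinearEquiv.surjective x
        rw [← map_smul, hb y, map_zero]) ((e j).symm z) (hcyc j hj z hz)
    have h1 := hrange j hj _ w
    rw [show (K.d ((ComplexShape.up ℕ).prev (idx j)) (idx j)).hom w = b • (e j).symm z from hw, map_smul,
      LinearEquiv.apply_symm_apply] at h1
    exact h1
  have htors : ∀ j, ∀ z ∈ G.Z j, ∃ M : ℕ, ∀ a ∈ maximalIdeal R ^ M, a • z ∈ LinearMap.range (G.D j) := by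
    intro j z hz
    rcases lt_or_ge N j with hj | hj
    · haveI : IsEmpty (Fin (G.n j)) := by rw [hk j hj]; infer_instance
      exact ⟨0, fun a _ => ⟨0, funext fun l => isEmptyElim l⟩⟩
    let C : Ideal R := (LinearMap.range (G.D j)).comap (LinearMap.toSpanSingleton R _ z)
    obtain ⟨M, hM⟩ := Ideal.exists_pow_le_of_le_radical_of_fg (I := maximalIdeal R) (J := C) (fun a ha => by
      obtain ⟨M, hM⟩ := exists_pow_smul_eq_zero _ (hfl (idx j)) ha
      exact ⟨M, hex j hj _ hM z hz⟩) (maximalIdeal R).fg_of_isNoetherianRing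
    exact ⟨M, fun a ha => hM ha⟩
  have hmem : ∀ j, j ≤ N → ∀ x : K.X (idx j),
      (K.d (idx j) ((ComplexShape.up ℕ).next (idx j))).hom x = 0 → e j x ∈ G.Z j := by
    intro j hj x hx
    cases j with
    | zero => trivial
    | succ m =>
      show e m ((K.d (idx (m + 1)) (idx m)).hom ((e (m + 1)).symm (e (m + 1) x))) = 0
      have hj' : idx (m + 1) + 1 = idx m := by
        simp only [idx]; rw [if_pos hj, if_pos (by omega)]; omega
      rw [CochainComplex.next, hj'] at hx
      rw [LinearEquiv.symm_apply_apply]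
      exact (congrArg (e m) hx).trans (map_zero _)
  have hc : ∀ l ≤ i, Kills (maximalIdeal R) (1 : R) l R := fun l hl z => by
    haveI := LC.subsingleton_H_low_of_depth hdepth l (by omega)
    exact Subsingleton.elim _ _
  have hidx : idx (N - i) = i := by simp only [idx]; rw [if_pos (Nat.sub_le N i)]; omega
  rw [← HomologicalComplex.exactAt_iff_isZero_homology, ← hidx,
    K.exactAt_iff' ((ComplexShape.up ℕ).prev (idx (N - i))) _ ((ComplexShape.up ℕ).next (idx (N - i))) rfl rfl,
    ShortComplex.moduleCat_exact_iff]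
  intro x hx
  have hz : e (N - i) x ∈ G.Z (N - i) := hmem _ (Nat.sub_le N i) x hx
  have h := kill_homology_prod (maximalIdeal R) G N hk htors (fun _ => 1) i hc (N - i) (Nat.sub_le N i)
    (by omega) _ hz
  rw [Finset.prod_const_one, one_smul] at h
  obtain ⟨w, hw⟩ := h
  have hw' := (e (N - i)).injective hw
  by_cases hl : (ComplexShape.up ℕ).Rel (idx (N - i + 1)) (idx (N - i))
  · obtain hp : (ComplexShape.up ℕ).prev (idx (N - i)) = idx (N - i + 1) := (ComplexShape.up ℕ).prev_eq' hl
    show ∃ x₁, (K.d ((ComplexShape.up ℕ).prev (idx (N - i))) (idx (N - i))).hom x₁ = x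
    rw [hp]
    exact ⟨_, hw'⟩
  · refine ⟨0, ?_⟩
    rw [map_zero, ← hw', show (K.d (idx (N - i + 1)) (idx (N - i))) = 0 from K.shape _ _ hl]
    rfl

end Groth.Agent.H1NIT
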