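import Groth.Agent.LC.CohTorsion
import Groth.Agent.LC.CohBasic
import Mathlib

/-! An element killing low local cohomology of the ring kills homology of free complexes. -/

universe u

open CategoryTheory CategoryTheory.Limits

namespace Groth.Agent.H1NIT

set_option backward.isDefEq.respectTransparency false
set_option backward.isDefEq.respectTransparency.types false

variable {A : Type u} [CommRing A] (I : Ideal A)

/-- `H^i_I`. -/
noncomputable abbrev HI (i : ℕ) (M : Type u) [AddCommGroup M] [Module A M] : Type u :=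
  (localCohomology I i).obj (ModuleCat.of A M)

/-- `c` kills `H^i_I(M)`. -/
def Kills (c : A) (i : ℕ) (M : Type u) [AddCommGroup M] [Module A M] : Prop :=
  ∀ z : HI I i M, c • z = 0

theorem map_add' (i : ℕ) {M N : ModuleCat.{u} A} (f g : M ⟶ N) (z : (localCohomology I i).obj M) :
    ((localCohomology I i).map (f + g)).hom z =
      ((localCohomology I i).map f).hom z + ((localCohomology I i).map g).hom z := by
  obtain ⟨n, x, rfl⟩ := LC.exists_toH I i z
  rw [LC.toH_natural, LC.toH_natural, LC.toH_natural, Abelian.Ext.mk₀_add, Abelian.Ext.comp_add, map_add]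

theorem map_zero' (i : ℕ) {M N : ModuleCat.{u} A} (z : (localCohomology I i).obj M) :
    ((localCohomology I i).map (0 : M ⟶ N)).hom z = 0 := by
  have := map_add' I i (0 : M ⟶ N) 0 z
  rw [add_zero] at this
  exact left_eq_add.1 this

theorem map_sum' (i : ℕ) {M N : ModuleCat.{u} A} {ι : Type} (s : Finset ι) (f : ι → (M ⟶ N))
    (z : (localCohomology I i).obj M) :
    ((localCohomology I i).map (∑ j ∈ s, f j)).hom z = ∑ j ∈ s, ((localCohomology I i).map (f j)).hom z := by
  induction s using Finset.cons_induction with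
  | empty => simp only [Finset.sum_empty]; exact map_zero' I i z
  | cons a s ha ih => rw [Finset.sum_cons, Finset.sum_cons, map_add', ih]

theorem kills_pi {c : A} {i : ℕ} (h : Kills I c i A) (n : ℕ) : Kills I c i (Fin n → A) := by
  intro z
  let π : Fin n → (ModuleCat.of A (Fin n → A) ⟶ ModuleCat.of A A) := fun j => ModuleCat.ofHom (LinearMap.proj j)
  let ι : Fin n → (ModuleCat.of A A ⟶ ModuleCat.of A (Fin n → A)) := fun j =>
    ModuleCat.ofHom (LinearMap.single A (fun _ => A) j)
  have he : ∑ j, π j ≫ ι j = 𝟙 (ModuleCat.of A (Fin n → A)) := by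
    refine ModuleCat.hom_ext (LinearMap.ext fun v => ?_)
    rw [ModuleCat.hom_sum, LinearMap.sum_apply]
    exact (Finset.univ_sum_single v)
  have hz : z = ∑ j, ((localCohomology I i).map (π j ≫ ι j)).hom z := by
    rw [← map_sum', he, CategoryTheory.Functor.map_id]; rfl
  rw [hz, Finset.smul_sum]
  refine Finset.sum_eq_zero fun j _ => ?_
  rw [Functor.map_comp]
  show c • ((localCohomology I i).map (ι j)).hom (((localCohomology I i).map (π j)).hom z) = 0
  rw [← map_smul, h, map_zero]

variable [IsNoetherianRing A]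

/-- Transfer along `0 → B → Z → H → 0` with `H` torsion. -/
theorem surj_map {M₁ M₂ M₃ : Type u} [AddCommGroup M₁] [Module A M₁] [AddCommGroup M₂] [Module A M₂]
    [AddCommGroup M₃] [Module A M₃] (f : M₁ →ₗ[A] M₂) (g : M₂ →ₗ[A] M₃) (hf : Function.Injective f)
    (hg : Function.Surjective g) (he : Function.Exact f g) (htors : LocCoh.IsPowerTorsion I M₃) {c : A}
    {i : ℕ} (h : Kills I c (i + 1) M₁) : Kills I c (i + 1) M₂ := by
  let S : ShortComplex (ModuleCat.{u} A) := ShortComplex.mk (ModuleCat.ofHom f) (ModuleCat.ofHom g)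
    (ModuleCat.hom_ext (LinearMap.ext fun x => he.apply_apply_eq_zero x))
  intro z
  haveI := LC.subsingleton_of_torsion I i (ModuleCat.of A M₃) htors
  obtain ⟨w, rfl⟩ := (LC.exact₂ I (i + 1) (S := S)
    { exact := (ShortComplex.ShortExact.moduleCat_exact_iff_function_exact _).2 he
      mono_f := (ModuleCat.mono_iff_injective _).2 hf
      epi_g := (ModuleCat.epi_iff_surjective _).2 hg } z).1 (Subsingleton.elim _ _)
  rw [← map_smul, h w, map_zero]

/-- `H^i(B)` is squeezed between `H^i(F)` and `H^{i+1}(Z)`. -/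
theorem kills_quot {M₁ M₂ M₃ : Type u} [AddCommGroup M₁] [Module A M₁] [AddCommGroup M₂] [Module A M₂]
    [AddCommGroup M₃] [Module A M₃] (f : M₁ →ₗ[A] M₂) (g : M₂ →ₗ[A] M₃) (hf : Function.Injective f)
    (hg : Function.Surjective g) (he : Function.Exact f g) {c d : A}
    {i : ℕ} (h2 : Kills I c i M₂) (h1 : Kills I d (i + 1) M₁) : Kills I (c * d) i M₃ := by
  let S : ShortComplex (ModuleCat.{u} A) := ShortComplex.mk (ModuleCat.ofHom f) (ModuleCat.ofHom g)
    (ModuleCat.hom_ext (LinearMap.ext fun x => he.apply_apply_eq_zero x))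
  have hS : S.ShortExact :=
    { exact := (ShortComplex.ShortExact.moduleCat_exact_iff_function_exact _).2 he
      mono_f := (ModuleCat.mono_iff_injective _).2 hf
      epi_g := (ModuleCat.epi_iff_surjective _).2 hg }
  intro z
  obtain ⟨w, hw⟩ := (LC.exact₃ I i hS (i + 1) rfl (d • z)).1 (by rw [map_smul]; exact h1 _)
  rw [mul_smul, ← hw, ← map_smul, h2 w, map_zero]

/-- A torsion quotient is killed by `(killer of Γ Z)·(killer of H^1 B)`. -/
theorem kills_torsion {M₁ M₂ M₃ : Type u} [AddCommGroup M₁] [Module A M₁] [AddCommGroup M₂] [Module A M₂]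
    [AddCommGroup M₃] [Module A M₃] (f : M₁ →ₗ[A] M₂) (g : M₂ →ₗ[A] M₃) (hf : Function.Injective f)
    (hg : Function.Surjective g) (he : Function.Exact f g) (htors : LocCoh.IsPowerTorsion I M₃) {c d : A}
    (h2 : ∀ x ∈ DRing.torsionSub I M₂, c • x = 0) (h1 : Kills I d 1 M₁) (y : M₃) : (c * d) • y = 0 := by
  let S : ShortComplex (ModuleCat.{u} A) := ShortComplex.mk (ModuleCat.ofHom f) (ModuleCat.ofHom g)
    (ModuleCat.hom_ext (LinearMap.ext fun x => he.apply_apply_eq_zero x))
  have hS : S.ShortExact :=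
    { exact := (ShortComplex.ShortExact.moduleCat_exact_iff_function_exact _).2 he
      mono_f := (ModuleCat.mono_iff_injective _).2 hf
      epi_g := (ModuleCat.epi_iff_surjective _).2 hg }
  let y' := (LC.H0Equiv I (ModuleCat.of A M₃)).symm ⟨y, htors y⟩
  obtain ⟨w, hw⟩ := (LC.exact₃ I 0 hS 1 rfl (d • y')).1 (by rw [map_smul]; exact h1 _)
  have h3 : ((localCohomology I 0).map S.g).hom (c • w) = (c * d) • y' := by
    rw [map_smul, hw, mul_smul]
  have hcw : c • w = 0 := by
    refine (LC.H0Equiv I (ModuleCat.of A M₂)).injective (Subtype.ext ?_)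
    rw [map_smul, map_zero]
    exact h2 _ (LC.H0Equiv I (ModuleCat.of A M₂) w).2
  rw [hcw, map_zero] at h3
  have h4 := congrArg (fun v => ((LC.H0Equiv I (ModuleCat.of A M₃) v : DRing.torsionSub I M₃) : M₃)) h3.symm
  simpa [y', map_smul] using h4

/-- A complex of finite free modules, as maps of free modules. -/
structure FreeCx (A : Type u) [CommRing A] where
  n : ℕ → ℕ
  D : ∀ j, (Fin (n (j + 1)) → A) →ₗ[A] (Fin (n j) → A)
  comp : ∀ j, D j ∘ₗ D (j + 1) = 0

/-- Cycles. -/
def FreeCx.Z (F : FreeCx A) : ∀ j, Submodule A (Fin (F.n j) → A)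
  | 0 => ⊤
  | j + 1 => LinearMap.ker (F.D j)

omit [IsNoetherianRing A] in
theorem FreeCx.range_le_Z (F : FreeCx A) : ∀ j, LinearMap.range (F.D j) ≤ F.Z j
  | 0 => le_top
  | j + 1 => fun x hx => by
    obtain ⟨y, rfl⟩ := hx
    exact LinearMap.congr_fun (F.comp j) y

set_option maxHeartbeats 1600000 in
theorem kill_homology_prod (F : FreeCx A) (k : ℕ) (hk : ∀ j, k < j → F.n j = 0)
    (htors : ∀ j, ∀ z ∈ F.Z j, ∃ N : ℕ, ∀ a ∈ I ^ N, a • z ∈ LinearMap.range (F.D j))
    (c : ℕ → A) (m : ℕ) (hc : ∀ i ≤ m, Kills I (c i) i A) :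
    ∀ j ≤ k, k - j ≤ m → ∀ z ∈ F.Z j,
      (∏ s ∈ Finset.range (k - j + 1), c s) • z ∈ LinearMap.range (F.D j) := by
  -- `H^i` of the boundaries
  have quotTors : ∀ j, LocCoh.IsPowerTorsion I (↥(F.Z j) ⧸ (LinearMap.range (F.D j)).comap (F.Z j).subtype) := by
    intro j y
    obtain ⟨⟨z, hz⟩, rfl⟩ := Submodule.mkQ_surjective _ y
    obtain ⟨N, hN⟩ := htors j z hz
    exact ⟨N, fun a ha => (map_smul _ a _).symm.trans ((Submodule.Quotient.mk_eq_zero _).2 (hN a ha))⟩
  have hB : ∀ r j, r + j = k → ∀ i, 1 ≤ i → i + r ≤ m + 1 →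
      Kills I (∏ l ∈ Finset.range r, c (i + l)) i ↥(LinearMap.range (F.D j)) := by
    intro r
    induction r with
    | zero =>
      intro j hj i hi _ z
      have : IsEmpty (Fin (F.n (j + 1))) := by rw [hk (j + 1) (by omega)]; infer_instance
      have hs : Subsingleton ↥(LinearMap.range (F.D j)) :=
        subsingleton_of_forall_eq 0 fun ⟨x, y, hy⟩ => Subtype.ext (by
          show x = 0
          rw [← hy, Subsingleton.elim y 0, map_zero])
      obtain ⟨i, rfl⟩ : ∃ i', i = i' + 1 := ⟨i - 1, by omega⟩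
      haveI := LC.subsingleton_of_torsion I i (ModuleCat.of A ↥(LinearMap.range (F.D j)))
        (fun x => ⟨0, fun a _ => Subsingleton.elim _ _⟩)
      exact Subsingleton.elim _ _
    | succ r ih =>
      intro j hj i hi hir
      have hex : Function.Exact (Submodule.inclusion (F.range_le_Z (j + 1)))
          (Submodule.mkQ ((LinearMap.range (F.D (j + 1))).comap (F.Z (j + 1)).subtype)) :=
        LinearMap.exact_iff.2 (by rw [Submodule.ker_mkQ, Submodule.range_inclusion])
      have hB' : Kills I (∏ l ∈ Finset.range r, c (i + 1 + l)) (i + 1) ↥(LinearMap.range (F.D (j + 1))) :=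
        ih (j + 1) (by omega) (i + 1) (by omega) (by omega)
      have hZ : Kills I (∏ l ∈ Finset.range r, c (i + 1 + l)) (i + 1) ↥(F.Z (j + 1)) :=
        surj_map I (M₁ := ↥(LinearMap.range (F.D (j + 1)))) (M₂ := ↥(F.Z (j + 1)))
          (M₃ := ↥(F.Z (j + 1)) ⧸ (LinearMap.range (F.D (j + 1))).comap (F.Z (j + 1)).subtype)
          (Submodule.inclusion (F.range_le_Z (j + 1))) (Submodule.mkQ _)
          (Submodule.inclusion_injective _) (Submodule.mkQ_surjective _) hex (quotTors (j + 1)) hB'
      rw [Finset.prod_range_succ', mul_comm, add_zero,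
        Finset.prod_congr rfl fun l _ => show c (i + (l + 1)) = c (i + 1 + l) by rw [add_assoc, add_comm 1 l]]
      exact kills_quot I (LinearMap.ker (F.D j)).subtype (F.D j).rangeRestrict
        (Submodule.injective_subtype _) (F.D j).surjective_rangeRestrict
        (LinearMap.exact_iff.2 (by rw [LinearMap.ker_rangeRestrict, Submodule.range_subtype]))
        (kills_pi I (hc i (by omega)) _) hZ
  intro j hj hjm z hz
  have h2 : ∀ x ∈ DRing.torsionSub I ↥(F.Z j), c 0 • x = 0 := by
    intro x hx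
    let e := LC.H0Equiv I (ModuleCat.of A (Fin (F.n j) → A))
    obtain ⟨N, hN⟩ := hx
    have hx' : (x : Fin (F.n j) → A) ∈ DRing.torsionSub I (Fin (F.n j) → A) :=
      ⟨N, fun a ha => congrArg Subtype.val (hN a ha)⟩
    have h := kills_pi I (hc 0 (Nat.zero_le m)) (F.n j) (e.symm ⟨x, hx'⟩)
    have h' := congrArg (fun v => ((e v : DRing.torsionSub I (Fin (F.n j) → A)) : Fin (F.n j) → A)) h
    exact Subtype.ext (by simpa [map_smul] using h')
  have := kills_torsion I (Submodule.inclusion (F.range_le_Z j)) (Submodule.mkQ _)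
    (Submodule.inclusion_injective _) (Submodule.mkQ_surjective _)
    (LinearMap.exact_iff.2 (by rw [Submodule.ker_mkQ, Submodule.range_inclusion])) (quotTors j) h2
    (hB (k - j) j (by omega) 1 le_rfl (by omega)) (Submodule.Quotient.mk ⟨z, hz⟩)
  rw [Finset.prod_range_succ', mul_comm, Finset.prod_congr rfl fun l _ => show c (l + 1) = c (1 + l) by rw [add_comm]]
  exact (Submodule.Quotient.mk_eq_zero ((LinearMap.range (F.D j)).comap (F.Z j).subtype)).1
    ((Submodule.Quotient.mk_smul _ _ (⟨z, hz⟩ : ↥(F.Z j))).trans this)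

theorem kill_homology (F : FreeCx A) (k : ℕ) (hk : ∀ j, k < j → F.n j = 0)
    (htors : ∀ j, ∀ z ∈ F.Z j, ∃ N : ℕ, ∀ a ∈ I ^ N, a • z ∈ LinearMap.range (F.D j))
    (c : A) (hc : ∀ i ≤ k, Kills I c i A) :
    ∀ j ≤ k, ∀ z ∈ F.Z j, c ^ (k - j + 1) • z ∈ LinearMap.range (F.D j) := fun j hj z hz => by
  simpa using kill_homology_prod I F k hk htors (fun _ => c) k hc j hj (Nat.sub_le k j) z hz

end Groth.Agent.H1NIT
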