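import Groth.Agent.H1NIT.Lift
import Groth.Agent.RegLoc6.Pd
import Groth.Agent.RegLoc6.Serre
import Groth.Agent.Alg6.AssDepth
import Groth.Agent.LC.ExtDim
import Groth.Agent.LC.DepthExt
import Mathlib

/-! Kunz: flatness of Frobenius implies regularity. -/

universe u

open IsLocalRing TensorProduct

namespace Groth.Agent.H1NIT

set_option backward.isDefEq.respectTransparency false
set_option backward.isDefEq.respectTransparency.types false

variable {R : Type u} [CommRing R]

theorem exists_min_pres [IsLocalRing R] (M : Type u) [AddCommGroup M] [Module R M] [Module.Finite R M] :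
    ∃ (k : ℕ) (g : (Fin k → R) →ₗ[R] M), Function.Surjective g ∧ ∀ v, g v = 0 → ∀ l, v l ∈ maximalIdeal R := by
  classical
  have hex : ∃ k, ∃ g : (Fin k → R) →ₗ[R] M, Function.Surjective g := RegLoc6.exists_presentation
  obtain ⟨g, hg⟩ := Nat.find_spec hex
  refine ⟨_, g, hg, fun v hv l => by_contra fun hl => ?_⟩
  rw [notMem_maximalIdeal] at hl
  obtain ⟨k, hk⟩ : ∃ k, Nat.find hex = k + 1 := Nat.exists_eq_succ_of_ne_zero (fun h => (h ▸ l).elim0)
  refine Nat.find_min hex (show k < Nat.find hex by omega) ?_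
  let σ : Fin k → Fin (Nat.find hex) := fun j => (finCongr hk).symm ((finCongr hk l).succAbove j)
  have hσ : ∀ i, i ≠ l → ∃ j, σ j = i := fun i hi => by
    obtain ⟨j, hj⟩ := Fin.exists_succAbove_eq (x := finCongr hk i) (y := finCongr hk l)
      (fun h => hi ((finCongr hk).injective h))
    exact ⟨j, (finCongr hk).injective (((finCongr hk).apply_symm_apply _).trans hj)⟩
  refine ⟨g ∘ₗ (Pi.basisFun R (Fin k)).constr R (fun j => Pi.single (σ j) 1), fun m => ?_⟩
  obtain ⟨w, rfl⟩ := hg m
  let w' := w - (w l * ↑hl.unit⁻¹) • v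
  have hgw : g w' = g w := by rw [map_sub, map_smul, hv, smul_zero, sub_zero]
  have hw' : w' l = 0 := by
    show w l - w l * ↑hl.unit⁻¹ * v l = 0
    rw [mul_assoc, IsUnit.val_inv_mul, mul_one, sub_self]
  have hmem : w' ∈ LinearMap.range ((Pi.basisFun R (Fin k)).constr R (fun j => (Pi.single (σ j) 1 :
      Fin (Nat.find hex) → R))) := by
    rw [pi_eq_sum_univ' w']
    refine Submodule.sum_mem _ fun i _ => ?_
    rcases eq_or_ne i l with rfl | hi
    · rw [hw', zero_smul]; exact zero_mem _
    · obtain ⟨j, rfl⟩ := hσ i hi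
      exact Submodule.smul_mem _ _ ⟨Pi.basisFun R _ j, Module.Basis.constr_basis _ _ _ _⟩
  obtain ⟨u, hu⟩ := hmem
  exact ⟨u, by rw [LinearMap.comp_apply, hu, hgw]⟩

theorem exists_min_res [IsLocalRing R] [IsNoetherianRing R] : ∀ (n : ℕ) (M : Type u) [AddCommGroup M] [Module R M]
    [Module.Finite R M], ∃ (F : FreeCx R) (q : (Fin (F.n 0) → R) →ₗ[R] M), Function.Surjective q ∧
      LinearMap.ker q = LinearMap.range (F.D 0) ∧
      (∀ j < n, LinearMap.ker (F.D j) ≤ LinearMap.range (F.D (j + 1))) ∧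
      (∀ j v l, F.D j v l ∈ maximalIdeal R) ∧ (∀ i ≤ n, F.n (i + 1) = 0 → RegLoc6.PdLE R i M) := by
  intro n
  induction n with
  | zero =>
    intro M _ _ _
    obtain ⟨k, g, hg, hmin⟩ := exists_min_pres (R := R) M
    obtain ⟨l, g', hg'⟩ := RegLoc6.exists_presentation (R := R) (M := ↥(LinearMap.ker g))
    let m : ℕ → ℕ := fun j => if j = 0 then k else if j = 1 then l else 0
    let D : ∀ j, (Fin (m (j + 1)) → R) →ₗ[R] (Fin (m j) → R) := fun j =>
      match j with
      | 0 => (LinearMap.ker g).subtype ∘ₗ g'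
      | _ + 1 => 0
    refine ⟨⟨m, D, fun j => ?_⟩, g, hg, ?_, fun j hj => absurd hj (Nat.not_lt_zero j), fun j v r => ?_, fun i hi h0 => ?_⟩
    · exact LinearMap.comp_zero _
    · show LinearMap.ker g = LinearMap.range ((LinearMap.ker g).subtype ∘ₗ g')
      rw [LinearMap.range_comp, LinearMap.range_eq_top.2 hg', Submodule.map_top, Submodule.range_subtype]
    · cases j with
      | zero => exact hmin _ (g' v).2 r
      | succ j => exact zero_mem _
    · obtain rfl : i = 0 := by omega
      have hl : l = 0 := h0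
      subst hl
      have hinj : Function.Injective g := by
        rw [← LinearMap.ker_eq_bot, eq_bot_iff]
        intro x hx
        obtain ⟨y, hy⟩ := hg' ⟨x, hx⟩
        rw [Submodule.mem_bot, ← show ((g' y : ↥(LinearMap.ker g)) : Fin k → R) = x from congrArg Subtype.val hy,
          Subsingleton.elim y 0, map_zero]
        rfl
      exact RegLoc6.pdLE_of_equiv (LinearEquiv.ofBijective g ⟨hinj, hg⟩) (RegLoc6.pdLE_of_projective 0)
  | succ n ih =>
    intro M _ _ _
    obtain ⟨k, g, hg, hmin⟩ := exists_min_pres (R := R) M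
    obtain ⟨G, q, hq, hkq, hex, hGmin, hpd⟩ := ih ↥(LinearMap.ker g)
    let m : ℕ → ℕ := fun j => Nat.casesOn j k G.n
    let D : ∀ j, (Fin (m (j + 1)) → R) →ₗ[R] (Fin (m j) → R) := fun j =>
      match j with
      | 0 => (LinearMap.ker g).subtype ∘ₗ q
      | j + 1 => G.D j
    refine ⟨⟨m, D, fun j => ?_⟩, g, hg, ?_, fun j hj => ?_, fun j v r => ?_, fun i hi h0 => ?_⟩
    · cases j with
      | zero =>
        refine LinearMap.ext fun x => ?_
        show ((q (G.D 0 x) : LinearMap.ker g) : Fin k → R) = 0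
        rw [show q (G.D 0 x) = 0 from LinearMap.mem_ker.1 (hkq ▸ ⟨x, rfl⟩)]; rfl
      | succ j => exact G.comp j
    · show LinearMap.ker g = LinearMap.range ((LinearMap.ker g).subtype ∘ₗ q)
      rw [LinearMap.range_comp, LinearMap.range_eq_top.2 hq, Submodule.map_top, Submodule.range_subtype]
    · cases j with
      | zero =>
        show LinearMap.ker ((LinearMap.ker g).subtype ∘ₗ q) ≤ LinearMap.range (G.D 0)
        rw [LinearMap.ker_comp, Submodule.ker_subtype, Submodule.comap_bot, hkq]
      | succ j => exact hex j (by omega)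
    · cases j with
      | zero => exact hmin _ (q v).2 r
      | succ j => exact hGmin j v r
    · cases i with
      | zero =>
        have hinj : Function.Injective g := by
          rw [← LinearMap.ker_eq_bot, eq_bot_iff]
          intro x hx
          obtain ⟨y, hy⟩ := hq ⟨x, hx⟩
          have : IsEmpty (Fin (G.n 0)) := by rw [show G.n 0 = 0 from h0]; infer_instance
          rw [Submodule.mem_bot, ← show ((q y : ↥(LinearMap.ker g)) : Fin k → R) = x from congrArg Subtype.val hy,
            Subsingleton.elim y 0, map_zero]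
          rfl
        exact RegLoc6.pdLE_of_equiv (LinearEquiv.ofBijective g ⟨hinj, hg⟩) (RegLoc6.pdLE_of_projective 0)
      | succ i => exact (RegLoc6.pdLE_succ_iff g hg).2 (hpd i (by omega) h0)

/-- Flat base change preserves exactness of standard complexes. -/
theorem ker_bmap_le {B : Type u} [CommRing B] (ψ : R →+* B) (hψ : ψ.Flat) {p q r : ℕ}
    (f : (Fin p → R) →ₗ[R] (Fin q → R)) (g : (Fin q → R) →ₗ[R] (Fin r → R)) (hfg : Function.Exact f g) :
    LinearMap.ker (bmap ψ g) ≤ LinearMap.range (bmap ψ f) := by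
  letI : Algebra R B := ψ.toAlgebra
  haveI : Module.Flat R B := hψ
  let e : ∀ n : ℕ, B ⊗[R] (Fin n → R) ≃ₗ[B] (Fin n → B) := fun n => TensorProduct.piScalarRight R B B (Fin n)
  have he : ∀ {a b : ℕ} (h : (Fin a → R) →ₗ[R] (Fin b → R)) (x : B ⊗[R] (Fin a → R)),
      e b (h.lTensor B x) = bmap ψ h (e a x) := by
    intro a b h x
    induction x using TensorProduct.induction_on with
    | zero => simp
    | tmul s v =>
      have hv : ∀ (n : ℕ) (w : Fin n → R), e n (s ⊗ₜ w) = s • (ψ ∘ w) := fun n w => funext fun i => by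
        show TensorProduct.piScalarRight R B B (Fin n) (s ⊗ₜ w) i = s * ψ (w i)
        rw [TensorProduct.piScalarRight_apply, TensorProduct.piScalarRightHom_tmul]
        show w i • s = s * ψ (w i)
        rw [Algebra.smul_def, mul_comm]
        rfl
      rw [LinearMap.lTensor_tmul, hv, hv, map_smul]
      congr 1
      exact funext fun l => by
        rw [bmap, Matrix.mulVecLin_apply, ← RingHom.map_mulVec, LinearMap.toMatrix'_mulVec]; rfl
    | add x y hx hy => simp [hx, hy]
  intro v hv
  obtain ⟨x, rfl⟩ := (e q).surjective v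
  rw [LinearMap.mem_ker, ← he, LinearEquiv.map_eq_zero_iff] at hv
  obtain ⟨y, hy⟩ := (Module.Flat.lTensor_exact B hfg x).1 hv
  exact ⟨e p y, by rw [← he, hy]⟩

/-- A complex exact from degree `s` stays exact from degree `s + length` modulo a regular sequence. -/
theorem exact_mod (F : FreeCx R) (s : ℕ) (N : ℕ) (hF : ∀ j, s ≤ j → j ≤ N → LinearMap.ker (F.D j) ≤ LinearMap.range (F.D (j + 1)))
    : ∀ rs : List R, RingTheory.Sequence.IsWeaklyRegular R rs → ∀ j, s + rs.length ≤ j → j ≤ N →
      ∀ z, (∀ l, F.D j z l ∈ Ideal.ofList rs) → ∃ v, ∀ l, (z - F.D (j + 1) v) l ∈ Ideal.ofList rs := by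
  intro rs
  induction rs using List.reverseRecOn with
  | nil =>
    intro _ j hj hjN z hz
    obtain ⟨v, hv⟩ := hF j (by simpa using hj) hjN (show F.D j z = 0 from funext fun l => by simpa using hz l)
    exact ⟨v, fun l => by rw [hv, sub_self]; exact zero_mem _⟩
  | append_singleton rs r ih =>
    intro hreg j hj hjN z hz
    rw [RingTheory.Sequence.isWeaklyRegular_append_iff, RingTheory.Sequence.isWeaklyRegular_singleton_iff] at hreg
    obtain ⟨hrs, hr⟩ := hreg
    rw [List.length_append, List.length_singleton] at hj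
    let J := Ideal.ofList rs
    have hJ : Ideal.ofList (rs ++ [r]) = J ⊔ Ideal.span {r} := by
      rw [Ideal.ofList_append, Ideal.ofList_singleton]
    simp only [hJ] at hz ⊢
    have hreg : ∀ a : R, r * a ∈ J → a ∈ J := fun a ha => by
      have h1 : ∀ b : R, Submodule.Quotient.mk b = (0 : R ⧸ (J • ⊤ : Submodule R R)) ↔ b ∈ J := fun b => by
        rw [Submodule.Quotient.mk_eq_zero, Ideal.smul_eq_mul, Ideal.mul_top]
      refine (h1 a).1 (hr.right_eq_zero_of_smul ?_)
      rw [← Submodule.Quotient.mk_smul, smul_eq_mul]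
      exact (h1 _).2 ha
    choose a ha c hc using fun l => Submodule.mem_sup.1 (hz l)
    choose w hw using fun l => Ideal.mem_span_singleton'.1 (hc l).1
    obtain ⟨i, rfl⟩ : ∃ i, j = i + 1 := ⟨j - 1, by omega⟩
    have hDw : ∀ l, F.D i w l ∈ J := fun l => hreg _ <| by
      have h0 : F.D i (F.D (i + 1) z) = 0 := LinearMap.congr_fun (F.comp i) z
      have he : F.D (i + 1) z = a + r • w := funext fun l => by
        rw [Pi.add_apply, Pi.smul_apply, smul_eq_mul, mul_comm, hw, (hc l).2]
      rw [he, map_add, map_smul] at h0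
      have h2 := congrFun h0 l
      rw [Pi.add_apply, Pi.smul_apply, smul_eq_mul, Pi.zero_apply] at h2
      rw [eq_neg_of_add_eq_zero_right h2]
      exact neg_mem (mem_of_forall_mem (F.D i) J a ha l)
    obtain ⟨u, hu⟩ := ih hrs i (by omega) (by omega) w hDw
    have hDz : ∀ l, F.D (i + 1) (z - r • u) l ∈ J := fun l => by
      rw [map_sub, map_smul, Pi.sub_apply, Pi.smul_apply, smul_eq_mul,
        show F.D (i + 1) z l = a l + r * w l by rw [mul_comm, hw, (hc l).2]]
      have : a l + r * w l - r * F.D (i + 1) u l = a l + r * (w - F.D (i + 1) u) l := by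
        rw [Pi.sub_apply]; ring
      rw [this]
      exact add_mem (ha l) (Ideal.mul_mem_left _ _ (hu l))
    obtain ⟨v, hv⟩ := ih hrs (i + 1) (by omega) hjN _ hDz
    refine ⟨v, fun l => ?_⟩
    have : (z - F.D (i + 1 + 1) v) l = (z - r • u - F.D (i + 1 + 1) v) l + r * u l := by
      simp only [Pi.sub_apply, Pi.smul_apply, smul_eq_mul]; ring
    rw [this]
    exact add_mem (Ideal.mem_sup_left (hv l)) (Ideal.mem_sup_right (Ideal.mem_span_singleton'.2 ⟨u l, mul_comm _ _⟩))

theorem flat_iterateFrobenius (p : ℕ) [ExpChar R p] (h : (frobenius R p).Flat) :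
    ∀ e, (iterateFrobenius R p e).Flat
  | 0 => by
    rw [show iterateFrobenius R p 0 = RingHom.id R from RingHom.ext fun x => by
      rw [iterateFrobenius_def, pow_zero, pow_one]; rfl]
    exact RingHom.Flat.id R
  | e + 1 => by
    rw [show iterateFrobenius R p (e + 1) = (frobenius R p).comp (iterateFrobenius R p e) from RingHom.ext fun x => by
      rw [iterateFrobenius_def, RingHom.comp_apply, iterateFrobenius_def, frobenius_def, ← pow_mul, ← pow_succ]]
    exact (flat_iterateFrobenius p h e).comp h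

/-- Kunz, local case. -/
theorem isRegularLocalRing_of_frobenius_flat [IsLocalRing R] [IsNoetherianRing R] (p : ℕ) [hp : Fact p.Prime]
    [CharP R p] (h : (frobenius R p).Flat) : IsRegularLocalRing R := by
  haveI : ExpChar R p := ExpChar.prime hp.out
  obtain ⟨rs, hrs, hmem, hdepth⟩ := LC.exists_idealDepth_eq_length (maximalIdeal R) (M := R)
    (LC.smul_top_ne_top_of_le_maximal le_rfl)
  let J := Ideal.ofList rs
  have hJ : J ≤ maximalIdeal R := Ideal.span_le.2 hmem
  haveI : Nontrivial (R ⧸ J) := Ideal.Quotient.nontrivial_iff.2 fun hh =>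
    (maximalIdeal.isMaximal R).ne_top (top_unique (hh ▸ hJ))
  have hnoreg : ∀ r ∈ maximalIdeal R, ¬ IsSMulRegular (R ⧸ J) r := fun r hr hreg => by
    have heq : (J • ⊤ : Submodule R R) = J := by rw [Ideal.smul_eq_mul, Ideal.mul_top]
    have h1 : RingTheory.Sequence.IsWeaklyRegular R (rs ++ [r]) := by
      rw [RingTheory.Sequence.isWeaklyRegular_append_iff, RingTheory.Sequence.isWeaklyRegular_singleton_iff]
      exact ⟨hrs, ((Submodule.quotEquivOfEq _ _ heq).isSMulRegular_congr r).2 hreg⟩
    have h2 := Alg6.length_le_idealDepth (I := maximalIdeal R) h1 fun x hx => by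
      rcases List.mem_append.1 hx with hx | hx
      · exact hmem x hx
      · rw [List.mem_singleton.1 hx]; exact hr
    rw [hdepth] at h2
    simp only [List.length_append, List.length_singleton, Nat.cast_le] at h2
    omega
  obtain ⟨P, hP, hmP⟩ : ∃ P ∈ associatedPrimes R (R ⧸ J), maximalIdeal R ≤ P := by
    by_contra! hall
    obtain ⟨r, hr, hr'⟩ := (Alg6.exists_isSMulRegular_mem_iff (M := R ⧸ J) (maximalIdeal R)).2 hall
    exact hnoreg r hr hr'
  obtain ⟨hPp, z, hz⟩ := Alg6.mem_ass_iff.1 hP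
  obtain ⟨s, rfl⟩ := Ideal.Quotient.mk_surjective z
  have hs : s ∉ J := fun hsJ => hPp.ne_top ((Ideal.eq_top_iff_one _).2 (by
    rw [hz, one_smul, Ideal.Quotient.eq_zero_iff_mem]
    exact hsJ))
  have hms : ∀ a ∈ maximalIdeal R, a * s ∈ J := fun a ha => by
    have := hmP ha
    rw [hz] at this
    exact Ideal.Quotient.eq_zero_iff_mem.1 this
  obtain ⟨e, he⟩ : ∃ e, s ∉ J ⊔ maximalIdeal R ^ e := by
    by_contra! hall
    refine hs (Ideal.Quotient.eq_zero_iff_mem.1 ((Submodule.mem_bot R).1 ?_))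
    rw [← Ideal.iInf_pow_smul_eq_bot_of_isLocalRing (M := R ⧸ J) _ (maximalIdeal.isMaximal R).ne_top]
    refine Submodule.mem_iInf _ |>.2 fun e => ?_
    obtain ⟨a, ha, b, hb, hab⟩ := Submodule.mem_sup.1 (hall e)
    rw [← hab, map_add, Ideal.Quotient.eq_zero_iff_mem.2 ha, zero_add, ← mul_one b]
    exact Submodule.smul_mem_smul hb (Submodule.mem_top (x := Ideal.Quotient.mk J 1))
  let t := rs.length
  obtain ⟨F, q, hq, hkq, hex, hmin, hpd⟩ := exists_min_res (R := R) (t + 1) (R ⧸ maximalIdeal R)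
  suffices hn : F.n (t + 1) = 0 from RegLoc6.isRegularLocalRing_of_pdLE (hpd t (by omega) hn)
  by_contra hn
  let ψ := iterateFrobenius R p e
  have hψm : ∀ a ∈ maximalIdeal R, ψ a ∈ maximalIdeal R ^ e := fun a ha => by
    rw [iterateFrobenius_def]
    exact Ideal.pow_le_pow_right (Nat.lt_pow_self hp.out.one_lt).le (Ideal.pow_mem_pow ha _)
  have hψflat : ψ.Flat := flat_iterateFrobenius p h e
  have hGex : ∀ j, 0 ≤ j → j ≤ t →
      LinearMap.ker ((F.map ψ).D j) ≤ LinearMap.range ((F.map ψ).D (j + 1)) := fun j _ hj =>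
    ker_bmap_le ψ hψflat (F.D (j + 1)) (F.D j) (LinearMap.exact_iff.2 (le_antisymm (hex j (by omega)) (by
      rintro _ ⟨x, rfl⟩; exact LinearMap.congr_fun (F.comp j) x)))
  have hGmin : ∀ j v l, (F.map ψ).D j v l ∈ maximalIdeal R ^ e := by
    intro j v l
    show bmap ψ (F.D j) v l ∈ _
    rw [bmap, Matrix.mulVecLin_apply, Matrix.mulVec, dotProduct]
    refine Ideal.sum_mem _ fun i _ => Ideal.mul_mem_right _ _ ?_
    rw [Matrix.map_apply, LinearMap.toMatrix'_apply]
    exact hψm _ (hmin _ _ _)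
  obtain ⟨l₀⟩ : Nonempty (Fin (F.n (t + 1))) := ⟨⟨0, Nat.pos_of_ne_zero hn⟩⟩
  let z : Fin (F.n (t + 1)) → R := Pi.single l₀ s
  have hzJ : ∀ l, (F.map ψ).D t z l ∈ J := fun l => by
    rcases Nat.eq_zero_or_pos e with he0 | hepos
    · exact absurd (by rw [he0, pow_zero, Ideal.one_eq_top, sup_top_eq]; trivial) he
    have hzs : z = s • Pi.single l₀ 1 := by
      ext i; rcases eq_or_ne i l₀ with rfl | hi <;> simp [z, *]
    rw [hzs]
    show (bmap ψ (F.D t) (s • Pi.single l₀ 1)) l ∈ J
    rw [map_smul, Pi.smul_apply, smul_eq_mul, mul_comm]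
    exact hms _ (Ideal.pow_le_self hepos.ne' (hGmin t _ l))
  obtain ⟨v, hv⟩ := exact_mod (F.map ψ) 0 t hGex rs hrs t (by omega) le_rfl z hzJ
  refine he ?_
  have h1 := hv l₀
  rw [Pi.sub_apply, show z l₀ = s from Pi.single_eq_same _ _] at h1
  rw [← sub_add_cancel s ((F.map ψ).D (t + 1) v l₀)]
  exact add_mem (Ideal.mem_sup_left h1) (Ideal.mem_sup_right (hGmin _ _ _))

end Groth.Agent.H1NIT
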